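import Cfsg.Agent.H77.J3Out.Check

/-!
Half of the run over the orbit.
-/

set_option autoImplicit false

namespace Cfsg.Agent.H77.J3Out

open Cfsg.Agent.H16

theorem places0 : allFrom placeOk 2048 0 = true := by decide +kernel

theorem places1 : allFrom placeOk 2048 2048 = true := by decide +kernel

theorem places2 : allFrom placeOk 2048 4096 = true := by decide +kernel

theorem places3 : allFrom placeOk 2048 6144 = true := by decide +kernel

theorem places4 : allFrom placeOk 2048 8192 = true := by decide +kernel

theorem places5 : allFrom placeOk 2048 10240 = true := by decide +kernel

end Cfsg.Agent.H77.J3Out
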