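import Cfsg.Agent.H77.J3Out.Check

/-!
Half of the run over the orbit.
-/

set_option autoImplicit false

namespace Cfsg.Agent.H77.J3Out

open Cfsg.Agent.H16

theorem places6 : allFrom placeOk 2048 12288 = true := by decide +kernel

theorem places7 : allFrom placeOk 2048 14336 = true := by decide +kernel

theorem places8 : allFrom placeOk 2048 16384 = true := by decide +kernel

theorem places9 : allFrom placeOk 2048 18432 = true := by decide +kernel

theorem places10 : allFrom placeOk 2048 20480 = true := by decide +kernel

theorem places11 : allFrom placeOk 728 22528 = true := by decide +kernel

end Cfsg.Agent.H77.J3Out
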