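import Cfsg.Agent.H77.J3Out.Commuting
import Cfsg.Agent.H77.J3Out.SweepA
import Cfsg.Agent.H77.J3Out.SweepB

/-!
The centralisers in `J₃` of the elements of order 19 and 9.
-/

set_option autoImplicit false
set_option maxRecDepth 4000

namespace Cfsg.Agent.H77.J3Out

open Cfsg.Spor Matrix Cfsg.Agent.H15.J3 Cfsg.Agent.H16

theorem places_all : ∀ i, i < 23256 → placeOk i = true :=
  allFrom_extend (allFrom_extend (allFrom_extend (allFrom_extend (allFrom_extend (allFrom_extend
    (allFrom_extend (allFrom_extend (allFrom_extend (allFrom_extend (allFrom_extend (allFrom_extend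
      allFrom_nil places0) places1) places2) places3) places4) places5) places6) places7) places8)
      places9) places10) places11

theorem ptAt_lt (i : ℕ) : ptAt i < 2 ^ 18 := by
  unfold ptAt
  exact lt_of_le_of_lt Nat.and_le_right (by norm_num)

theorem place_spec {i : ℕ} (hi : i < 23256) :
    ptAt i ∈ oneSet ∧ (i < 23255 → ptAt i < ptAt (i + 1)) ∧
      candOk Data.tabX Data.knownX (ptAt i) = true ∧ candOk Data.tabW Data.knownW (ptAt i) = true := by
  have h := places_all i hi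
  simp only [placeOk, forceNat_eq, Bool.and_eq_true, Bool.or_eq_true, Nat.blt_eq, Nat.ble_eq,
    isOne, normF_eq] at h
  obtain ⟨⟨⟨h0, hnx⟩, hl, hn⟩, hX, hW⟩ := h
  refine ⟨⟨ptAt_lt i, Nat.pos_iff_ne_zero.1 h0, Nat.eq_of_beq_eq_true hn, ?_⟩, fun h => ?_, hX, hW⟩
  · exact Nat.eq_of_beq_eq_true hl
  · exact hnx.resolve_left (not_le.2 h)

theorem image_ptAt : ptAt '' Set.Iio 23256 = oneSet := by
  have hmono : StrictMonoOn ptAt (Set.Iio 23256) := by
    intro i hi j hj hij
    induction j, hij using Nat.le_induction with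
    | base => exact (place_spec hi).2.1 (by simp only [Set.mem_Iio] at hj; omega)
    | succ j hij ih =>
      have hj' : j < 23256 := by simp only [Set.mem_Iio] at hj; omega
      exact lt_trans (ih hj') ((place_spec hj').2.1 (by simp only [Set.mem_Iio] at hj; omega))
  refine Set.eq_of_subset_of_ncard_le ?_ ?_ (Set.finite_of_ncard_pos (by rw [ncard_oneSet]; norm_num))
  · rintro v ⟨i, hi, rfl⟩
    exact (place_spec hi).1
  · rw [hmono.injOn.ncard_image, Set.ncard_Iio_nat, ncard_oneSet]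

theorem vec_all {v : ℕ} (hv : v < 2 ^ 18) (h0 : v ≠ 0) (hn : H15.J3.norm v = v) (hl : lab v = 1) :
    candOk Data.tabX Data.knownX v = true ∧ candOk Data.tabW Data.knownW v = true := by
  obtain ⟨i, hi, rfl⟩ : v ∈ ptAt '' Set.Iio 23256 := image_ptAt ▸ ⟨hv, h0, hn, hl⟩
  exact (place_spec hi).2.2

theorem powX_ok : ∀ i : Fin 19, ∃ a : Fin 3,
    (Data.powX.getD i []).getD 1 0 = a ∧ scs a (ev trip (List.replicate ((Data.powX.getD i []).getD 0 0) 0)) =
      Data.knownX.getD i [] := by decide +kernel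

theorem knownX_length : Data.knownX.length = 19 := by decide +kernel

theorem order_ok : ev trip (List.replicate 19 0) = scs 2 idM ∧ notScalar X = true := by decide +kernel

theorem twist_ok : mm Z W = sc (mm W Z) := by decide +kernel

variable {F : Type*} [Field F] [Fintype F] {ω : F} (hG : Good F ω)
include hG

theorem scalar_cases {c : F} (hc : c ≠ 0) : ∃ a : Fin 3, c = ω ^ (a : ℕ) := by
  obtain ⟨k, -, ek⟩ := val_surj hG (fun _ => c)
  have := congrFun ek (pt 0)
  simp only [val, cf] at this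
  rw [← this] at hc ⊢
  clear this ek
  generalize k.testBit (idx (pt 0)) = a at hc ⊢
  generalize k.testBit (9 + idx (pt 0)) = b at hc ⊢
  cases a <;> cases b
  · simp at hc
  · exact ⟨1, by simp⟩
  · exact ⟨0, by simp⟩
  · exact ⟨2, by simp [sq, w_sq hG, add_comm]⟩

/-- Elements commuting with the image of a code matrix commute with it up to a scalar. -/
theorem exists_twist {p : J3 F ω} {P : List ℕ} (hp : Rep ω p P) (g : ↥(threeJ3 F ω))
    (hcomm : (QuotientGroup.mk g : J3 F ω) * p = p * QuotientGroup.mk g) :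
    ∃ a : Fin 3, (g.1 : Matrix F9 F9 F) * toMat ω P =
      ω ^ (a : ℕ) • (toMat ω P * (g.1 : Matrix F9 F9 F)) := by
  obtain ⟨h, rfl, d, hd, eh⟩ := hp
  rw [← QuotientGroup.mk_mul, ← QuotientGroup.mk_mul, eq_iff hG] at hcomm
  obtain ⟨c, hc, e⟩ := hcomm
  rw [mat_mul hG, mat_mul hG, eh, mul_smul_comm, smul_mul_assoc, smul_comm c d] at e
  have e' := smul_right_injective (Matrix F9 F9 F) hd e
  obtain ⟨a, rfl⟩ := scalar_cases hG hc
  exact ⟨a, e'⟩

theorem Rep.pow {x : J3 F ω} (hx : Rep ω x X) :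
    ∀ n, Rep ω (x ^ n) (ev trip (List.replicate n 0))
  | 0 => by rw [pow_zero]; exact Rep.one hG
  | n + 1 => by rw [pow_succ']; exact hx.mul hG (Rep.pow hx n)

theorem toMat_powX : ∀ n, toMat ω (ev trip (List.replicate n 0)) = toMat ω X ^ n
  | 0 => by rw [pow_zero]; exact toMat_ev_nil hG _
  | n + 1 => by rw [List.replicate_succ, toMat_ev_cons hG, toMat_powX n, pow_succ']; rfl

/-- The centraliser of the element of order 19. -/
theorem centralizer_X {x q : J3 F ω} (hx : Rep ω x X) (h : q * x = x * q) : ∃ k < 19, q = x ^ k := by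
  obtain ⟨g, rfl⟩ := QuotientGroup.mk_surjective q
  obtain ⟨a, e⟩ := exists_twist hG hx g h
  have hpow : ∀ n : ℕ, (g.1 : Matrix F9 F9 F) * toMat ω X ^ n =
      (ω ^ (a : ℕ)) ^ n • (toMat ω X ^ n * (g.1 : Matrix F9 F9 F)) := by
    intro n
    induction n with
    | zero => simp
    | succ n ih =>
      rw [pow_succ, ← mul_assoc, ih, smul_mul_assoc, mul_assoc, e, mul_smul_comm, smul_smul,
        ← mul_assoc, ← pow_succ]
  have h19 := hpow 19
  rw [← toMat_powX hG, order_ok.1, toMat_scs hG, toMat_idM hG, mul_smul_comm, mul_one, smul_mul_assoc,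
    one_mul, smul_smul] at h19
  have hω3 : ω ^ 3 = 1 := w_cube hG
  have hg0 : (g.1 : Matrix F9 F9 F) ≠ 0 := g.1.isUnit.ne_zero
  have h1 := smul_left_injective F hg0 h19
  have ha : ω ^ (a : ℕ) = 1 := by
    rw [← pow_mul, show (a : ℕ) * 19 = (a : ℕ) + 3 * (6 * (a : ℕ)) by ring, pow_add, pow_mul ω 3, hω3,
      one_pow, mul_one, eq_comm, mul_eq_right₀ (w_pow_ne hG 2)] at h1
    exact h1
  rw [ha, one_smul] at e
  obtain ⟨K, hK, c, hc, eg⟩ := exists_known hG coX_ok tabX_ok
    (fun v hv h0 hn hl => (vec_all hv h0 hn hl).1) e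
  obtain ⟨i, hi, rfl⟩ := List.getElem_of_mem hK
  obtain ⟨b, -, ei⟩ := powX_ok ⟨i, knownX_length ▸ hi⟩
  rw [List.getD_eq_getElem Data.knownX [] hi] at ei
  have hq : Rep ω (QuotientGroup.mk g : J3 F ω) (Data.knownX[i]) := ⟨g, rfl, c, hc, eg⟩
  refine ⟨(Data.powX.getD i []).getD 0 0, ?_, (hq.scs hG ei.symm).unique hG (hx.pow hG _)⟩
  have hk : ∀ i : Fin 19, (Data.powX.getD i []).getD 0 0 < 19 := by decide +kernel
  exact hk ⟨i, knownX_length ▸ hi⟩

theorem toMat_powZ : ∀ n, toMat ω (ev [Z] (List.replicate n 0)) = toMat ω Z ^ n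
  | 0 => by rw [pow_zero]; exact toMat_ev_nil hG _
  | n + 1 => by rw [List.replicate_succ, toMat_ev_cons hG, toMat_powZ n, pow_succ']; rfl

/-- The centraliser of the element of order nine. -/
theorem centralizer_W {w q : J3 F ω} (hw : Rep ω w W) (h : q * w = w * q) :
    ∃ a : Fin 3, ∃ K ∈ Data.knownW, Rep ω q (mm (ev [Z] (List.replicate a 0)) K) := by
  obtain ⟨g, rfl⟩ := QuotientGroup.mk_surjective q
  obtain ⟨a, e⟩ := exists_twist hG hw g h
  obtain ⟨z, ez⟩ := exists_el hG (ev_mem_hSet hG le_rfl (show small 7 Data.wZ = true by decide +kernel))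
  replace ez : (z.1 : Matrix F9 F9 F) = toMat ω Z := ez
  have hz : (z.1 : Matrix F9 F9 F) * toMat ω W = ω • (toMat ω W * (z.1 : Matrix F9 F9 F)) := by
    rw [ez, ← toMat_mm hG, ← toMat_mm hG, twist_ok, toMat_sc hG]
  have hzn : ∀ n : ℕ, ((z ^ n).1 : Matrix F9 F9 F) * toMat ω W =
      ω ^ n • (toMat ω W * ((z ^ n).1 : Matrix F9 F9 F)) := by
    intro n
    induction n with
    | zero =>
      rw [pow_zero, pow_zero, one_smul]
      show (1 : Matrix F9 F9 F) * _ = _ * (1 : Matrix F9 F9 F)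
      rw [one_mul, mul_one]
    | succ n ih =>
      rw [pow_succ, mat_mul hG, mul_assoc, hz, mul_smul_comm, ← mul_assoc, ih, smul_mul_assoc, smul_smul,
        mul_assoc, pow_succ']
  set k := (z ^ (a : ℕ))⁻¹ * g with hk
  have hcom : (k.1 : Matrix F9 F9 F) * toMat ω W = toMat ω W * (k.1 : Matrix F9 F9 F) := by
    have hu : ((z ^ (a : ℕ)).1 : Matrix F9 F9 F) * (k.1 : Matrix F9 F9 F) = g.1 := by
      rw [← mat_mul hG, hk, mul_inv_cancel_left]
    rw [← hu, mul_assoc, ← mul_assoc (toMat ω W), ← smul_mul_assoc, ← hzn, mul_assoc] at e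
    exact (z ^ (a : ℕ)).1.isUnit.mul_left_cancel e
  obtain ⟨K, hK, c, hc, eg⟩ := exists_known hG coW_ok tabW_ok
    (fun v hv h0 hn hl => (vec_all hv h0 hn hl).2) hcom
  refine ⟨a, K, hK, g, rfl, c, hc, ?_⟩
  have hzp : ∀ n : ℕ, ((z ^ n).1 : Matrix F9 F9 F) = toMat ω Z ^ n := fun n => by
    rw [← ez]; simp
  have hu : ((z ^ (a : ℕ)).1 : Matrix F9 F9 F) * (k.1 : Matrix F9 F9 F) = g.1 := by
    rw [← mat_mul hG, hk, mul_inv_cancel_left]
  rw [← hu, eg, toMat_mm hG, toMat_powZ hG, hzp, mul_smul_comm]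

end Cfsg.Agent.H77.J3Out
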