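import Cfsg.Agent.H77.J3Out.Rep
import Cfsg.Agent.H77.J3Out.Points

/-!
The elements commuting with a cyclic matrix are found by one run over the orbit of the base line,
with a table for each polynomial moving the first unit vector to another.
-/

set_option autoImplicit false

namespace Cfsg.Agent.H77.J3Out

open Cfsg.Spor Matrix Cfsg.Agent.H15.J3 Cfsg.Agent.H16

/-- The sum of two code matrices. -/
def addC (M N : List ℕ) : List ℕ := List.zipWith (· ^^^ ·) M N

/-- A scalar matrix, the scalar given by two bits. -/
def scalC (a b : Bool) : List ℕ := idM.map fun c => pick a b c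

/-- The polynomial in `P` with the `n` coefficients of `c` from place `i` on. -/
def hor (P : List ℕ) (c : ℕ) : ℕ → ℕ → List ℕ
  | 0, _ => List.replicate 9 0
  | n + 1, i => addC (scalC (c.testBit i) (c.testBit (9 + i))) (mm P (hor P c n (i + 1)))

/-- The code of the polynomial for the unit vector `k`. -/
def poly (P co : List ℕ) (k : ℕ) : List ℕ := hor P (co.getD k 0) 9 0

/-- One chunk of six bits. -/
noncomputable def chunk6 (t v : ℕ) : ℕ :=
  Nat.land (Nat.shiftRight t (Nat.mul (Nat.land v 63) 18)) 262143

/-- The image under a table. -/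
noncomputable def tab6 (T : List ℕ) (v : ℕ) : ℕ :=
  List.rec (motive := fun _ => ℕ → ℕ) (fun _ => 0)
    (fun t _ ih v => Nat.xor (chunk6 t v) (ih (Nat.shiftRight v 6))) T v

/-- The label of a vector is one. -/
noncomputable def isLab (x : ℕ) : Bool := forceNat (normF x) fun y => Nat.beq (elab3 (entry y)) 1

/-- The check for one base image. -/
noncomputable def candOk (Ts known : List (List ℕ)) (v : ℕ) : Bool :=
  forceNat v fun v =>
    bif Ts.all (fun T => forceNat (tab6 T v) isLab) then
      known.any (fun K => natListEq (Ts.map fun T => tab6 T v) K) else true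

/-- A point of the orbit. -/
noncomputable def ptAt (i : ℕ) : ℕ :=
  Nat.land (Nat.shiftRight (Data.pts.getD (Nat.div i 256) 0) (Nat.mul (Nat.mod i 256) 18)) 262143

/-- The check at one place of the list. -/
noncomputable def placeOk (i : ℕ) : Bool :=
  forceNat i fun i => forceNat (ptAt i) fun v =>
    Nat.blt 0 v && (Nat.ble 23255 i || Nat.blt v (ptAt (Nat.succ i))) && isOne v &&
      (candOk Data.tabX Data.knownX v && candOk Data.tabW Data.knownW v)

theorem coX_ok : Data.coX.length = 9 ∧ Data.tabX.length = 9 ∧
    ∀ k : Fin 9, app (poly X Data.coX k) 1 = 2 ^ (k : ℕ) := by decide +kernel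

theorem coW_ok : Data.coW.length = 9 ∧ Data.tabW.length = 9 ∧
    ∀ k : Fin 9, app (poly W Data.coW k) 1 = 2 ^ (k : ℕ) := by decide +kernel

/-- The test of the tables. -/
noncomputable def tableOk (P co : List ℕ) (Ts : List (List ℕ)) (k : ℕ) : Bool :=
  (fun M => Nat.beq (Ts.getD k []).length 3 && M.all (fun c => Nat.blt c 262144) &&
    allFrom (fun i => Nat.beq (chunk6 ((Ts.getD k []).getD (Nat.div i 64) 0) (Nat.mod i 64))
      (appF M (Nat.mul (Nat.mod i 64) (2 ^ (6 * Nat.div i 64))))) 192 0 &&
    Nat.beq M.length 9) (poly P co k)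

theorem tabX_ok : ∀ k : Fin 9, tableOk X Data.coX Data.tabX k = true := by decide +kernel

theorem tabW_ok : ∀ k : Fin 9, tableOk W Data.coW Data.tabW k = true := by decide +kernel

end Cfsg.Agent.H77.J3Out
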