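import Cfsg.Agent.H77.J3Out.Check

/-!
The soundness of the check for commuting elements.
-/

set_option autoImplicit false

namespace Cfsg.Agent.H77.J3Out

open Cfsg.Spor Matrix Cfsg.Agent.H15.J3 Cfsg.Agent.H16

theorem val_unit {F : Type*} [Field F] {ω : F} (z : F9) :
    val ω (2 ^ idx z) = Pi.single z (1 : F) := by
  funext w
  rw [val, ((unit_pts z).2.2.2.2 w).1, ((unit_pts z).2.2.2.2 w).2, Pi.single_apply]
  by_cases e : w = z <;> simp [e, cf]

theorem tab6_eq {P co : List ℕ} {Ts : List (List ℕ)} {k : ℕ} (h : tableOk P co Ts k = true) {v : ℕ}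
    (hv : v < 2 ^ 18) :
    tab6 (Ts.getD k []) v = app (poly P co k) v ∧ app (poly P co k) v < 2 ^ 18 := by
  simp only [tableOk, Bool.and_eq_true, List.all_eq_true, Nat.blt_eq] at h
  obtain ⟨⟨⟨hlen, hb⟩, hc⟩, hM⟩ := h
  have hM' := Nat.eq_of_beq_eq_true hM
  refine ⟨?_, app_bound hb _⟩
  have hlen' := Nat.eq_of_beq_eq_true hlen
  obtain ⟨t0, t1, t2, hT⟩ : ∃ a b c, Ts.getD k [] = [a, b, c] := by
    generalize Ts.getD k [] = T at hlen'
    match T, hlen' with
    | [a, b, c], _ => exact ⟨a, b, c, rfl⟩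
  rw [hT] at hc ⊢
  have key : ∀ j, j < 3 → ∀ u, chunk6 ([t0, t1, t2].getD j 0) u =
      app (poly P co k) (u % 64 * 2 ^ (6 * j)) := by
    intro j hj u
    have := Nat.eq_of_beq_eq_true (allFrom_spec hc (64 * j + u % 64) (Nat.zero_le _) (by omega))
    rw [appF_eq hM'] at this
    simp only [show Nat.div (64 * j + u % 64) 64 = j from (by show (64 * j + u % 64) / 64 = j; omega),
      show Nat.mod (64 * j + u % 64) 64 = u % 64 from (by show (64 * j + u % 64) % 64 = u % 64; omega)] at this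
    refine Eq.trans ?_ this
    show Nat.land (Nat.shiftRight _ (Nat.mul (u &&& 63) 18)) _ =
      Nat.land (Nat.shiftRight _ (Nat.mul ((u % 64) &&& 63) 18)) _
    rw [show (63 : ℕ) = 2 ^ 6 - 1 from rfl, Nat.and_two_pow_sub_one_eq_mod,
      Nat.and_two_pow_sub_one_eq_mod, show (2 : ℕ) ^ 6 = 64 from rfl, Nat.mod_mod]
  show Nat.xor (chunk6 t0 v) (Nat.xor (chunk6 t1 (Nat.shiftRight v 6))
    (Nat.xor (chunk6 t2 (Nat.shiftRight (Nat.shiftRight v 6) 6)) 0)) = _
  rw [show chunk6 t0 v = _ from key 0 (by norm_num) v, show chunk6 t1 (Nat.shiftRight v 6) = _ from key 1 (by norm_num) _,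
    show chunk6 t2 (Nat.shiftRight (Nat.shiftRight v 6) 6) = _ from key 2 (by norm_num) _]
  show app _ _ ^^^ (app _ _ ^^^ (app _ _ ^^^ 0)) = _
  rw [Nat.xor_zero, ← app_xor, ← app_xor]
  congr 1
  apply Nat.eq_of_testBit_eq
  intro i
  simp only [Nat.testBit_xor, Nat.shiftRight_eq, Nat.testBit_mul_two_pow,
    show (64 : ℕ) = 2 ^ 6 from rfl, Nat.testBit_mod_two_pow, Nat.testBit_shiftRight]
  by_cases h1 : i < 6
  · simp [h1, show ¬ 6 ≤ i by omega, show ¬ 12 ≤ i by omega]
  · by_cases h2 : i < 12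
    · simp [h1, show 6 ≤ i by omega, show ¬ 12 ≤ i by omega, show i - 6 < 6 by omega,
        show 6 + (i - 6) = i by omega]
    · by_cases h3 : i < 18
      · simp [h1, show 6 ≤ i by omega, show 12 ≤ i by omega, show ¬ i - 6 < 6 by omega,
          show i - 12 < 6 by omega, show 6 + (6 + (i - 12)) = i by omega]
      · simp [h1, show 6 ≤ i by omega, show 12 ≤ i by omega, show ¬ i - 6 < 6 by omega,
          show ¬ i - 12 < 6 by omega,
          Nat.testBit_lt_two_pow (lt_of_lt_of_le hv (Nat.pow_le_pow_right (by norm_num) (show 18 ≤ i by omega)))]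

variable {F : Type*} [Field F] [Fintype F] {ω : F} (hG : Good F ω)
include hG

theorem toMat_addC {M N : List ℕ} (hM : M.length = 9) (hN : N.length = 9) :
    toMat ω (addC M N) = toMat ω M + toMat ω N := by
  ext w z
  rw [Matrix.add_apply, toMat_apply, toMat_apply, toMat_apply, addC,
    List.getD_eq_getElem _ _ (show idx z < (List.zipWith (· ^^^ ·) M N).length by
      simp only [List.length_zipWith, hM, hN]; exact idx_lt z),
    List.getElem_zipWith, List.getD_eq_getElem _ _ (hM.symm ▸ idx_lt z),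
    List.getD_eq_getElem _ _ (hN.symm ▸ idx_lt z), val_xor hG]
  rfl

theorem toMat_scalC (a b : Bool) : toMat ω (scalC a b) = cf ω a b • (1 : Matrix F9 F9 F) := by
  ext w z
  have hz : idx z < idM.length := by simpa [idM] using idx_lt z
  rw [Matrix.smul_apply, ← toMat_idM hG, toMat_apply, toMat_apply, scalC,
    List.getD_eq_getElem _ _ (show idx z < (idM.map fun c => pick a b c).length by simpa using hz),
    List.getElem_map, List.getD_eq_getElem _ _ hz, val_pick hG]
  rfl

theorem hor_commute {P : List ℕ} {g : Matrix F9 F9 F} (h : g * toMat ω P = toMat ω P * g) (c : ℕ) :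
    ∀ n i, (hor P c n i).length = 9 ∧ g * toMat ω (hor P c n i) = toMat ω (hor P c n i) * g := by
  intro n
  induction n with
  | zero =>
    intro i
    refine ⟨rfl, ?_⟩
    have h0 : toMat ω (hor P c 0 i) = 0 := by
      ext w z
      rw [toMat_apply, hor, List.getD_eq_getElem _ _ (show idx z < (List.replicate 9 0).length by
        simpa using idx_lt z), List.getElem_replicate, val_zero]
      rfl
    rw [h0, mul_zero, zero_mul]
  | succ n ih =>
    intro i
    have l1 : (scalC (c.testBit i) (c.testBit (9 + i))).length = 9 := by simp [scalC, idM]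
    have l2 : (mm P (hor P c n (i + 1))).length = 9 := mm_length _ _
    refine ⟨by simp [hor, addC, List.length_zipWith, l1, l2], ?_⟩
    rw [hor, toMat_addC hG l1 l2, toMat_scalC hG, toMat_mm hG, mul_add, add_mul, mul_smul_comm,
      smul_mul_assoc, mul_one, one_mul, ← mul_assoc, h, mul_assoc, (ih (i + 1)).2, ← mul_assoc]

/-- A group element carrying one unit vector to `x` gives `x` the label one. -/
theorem isLab_of_mem {g : GL F9 F} (hg : g ∈ threeJ3 F ω) {d : F} (hd : d ≠ 0) (z : F9) {x : ℕ}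
    (hx : x < 2 ^ 18) (e : val ω x = d • ((g : Matrix F9 F9 F) *ᵥ val ω (2 ^ idx z))) :
    isLab x = true := by
  obtain ⟨hlt, hne, hn, hl, -⟩ := unit_pts z
  obtain ⟨h, hh, c, hc, eh⟩ := (lab_eq_one_iff hG hlt hne hn).1 hl
  have hx0 : x ≠ 0 := by
    rintro rfl
    rw [val_zero] at e
    have hz := (smul_eq_zero.1 e.symm).resolve_left hd
    exact val_ne_zero hG hlt hne ((mulVec_injective_iff_isUnit.2 g.isUnit) (by rw [hz, mulVec_zero]))
  obtain ⟨a, ha, ea⟩ := exists_smul_norm hG x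
  have hn0 : H15.J3.norm x ≠ 0 := fun h0 => by
    rw [h0, val_zero] at ea
    exact val_ne_zero hG hx hx0 ((smul_eq_zero.1 ea.symm).resolve_left ha)
  rw [isLab, forceNat_eq, normF_eq]
  show Nat.beq (elab3 (entry (H15.J3.norm x))) 1 = true
  rw [show elab3 (entry (H15.J3.norm x)) = 1 from
    (lab_eq_one_iff hG (norm_lt hG hx) hn0 (norm_idem hG hx)).2
      ⟨g * h, mul_mem hg hh, a * d * c, mul_ne_zero (mul_ne_zero ha hd) hc, by
        rw [ea, e, eh, mulVec_smul, mulVec_mulVec, Units.val_mul, smul_smul, smul_smul]⟩]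
  rfl

/-- The elements commuting with the cyclic matrix `P` are the listed ones up to scalars. -/
theorem exists_known {P co : List ℕ} {Ts known : List (List ℕ)}
    (hco : co.length = 9 ∧ Ts.length = 9 ∧ ∀ k : Fin 9, app (poly P co k) 1 = 2 ^ (k : ℕ))
    (htab : ∀ k : Fin 9, tableOk P co Ts k = true)
    (hcheck : ∀ v, v < 2 ^ 18 → v ≠ 0 → H15.J3.norm v = v → lab v = 1 → candOk Ts known v = true)
    {g : ↥(threeJ3 F ω)}
    (hgP : (g.1 : Matrix F9 F9 F) * toMat ω P = toMat ω P * (g.1 : Matrix F9 F9 F)) :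
    ∃ K ∈ known, ∃ c : F, c ≠ 0 ∧ (g.1 : Matrix F9 F9 F) = c • toMat ω K := by
  obtain ⟨v0, hv0, ev0⟩ := val_surj hG ((g.1 : Matrix F9 F9 F) *ᵥ val ω 1)
  obtain ⟨d, hd, ed⟩ := exists_smul_norm hG v0
  rw [ev0] at ed
  set v := H15.J3.norm v0 with hv
  have hvlt : v < 2 ^ 18 := norm_lt hG hv0
  have hv00 : v ≠ 0 := fun h0 => by
    rw [h0, val_zero] at ed
    have hz := (smul_eq_zero.1 ed.symm).resolve_left hd
    exact val_ne_zero hG (by norm_num : 1 < 2 ^ 18) one_ne_zero
      ((mulVec_injective_iff_isUnit.2 g.1.isUnit) (by rw [hz, mulVec_zero]))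
  have hvn : H15.J3.norm v = v := norm_idem hG hv0
  have hl : lab v = 1 := (lab_eq_one_iff hG hvlt hv00 hvn).2 ⟨g.1, g.2, d, hd, ed⟩
  have hc := hcheck v hvlt hv00 hvn hl
  have hval : ∀ z : F9, val ω (tab6 (Ts.getD (idx z) []) v) =
      (d • (g.1 : Matrix F9 F9 F)) *ᵥ val ω (2 ^ idx z) ∧ tab6 (Ts.getD (idx z) []) v < 2 ^ 18 := fun z => by
    obtain ⟨e1, e2⟩ := tab6_eq (htab ⟨idx z, idx_lt z⟩) hvlt
    refine ⟨?_, e1.symm ▸ e2⟩
    have hk := hco.2.2 ⟨idx z, idx_lt z⟩
    simp only at hk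
    rw [e1, val_app hG, ed, mulVec_smul, mulVec_mulVec, poly, ← (hor_commute hG hgP _ 9 0).2, ← hk, val_app hG,
      smul_mulVec, mulVec_mulVec, poly]
  have hall : Ts.all (fun T => forceNat (tab6 T v) isLab) = true := by
    refine List.all_eq_true.2 fun T hT => ?_
    obtain ⟨k, hk, rfl⟩ := List.getElem_of_mem hT
    rw [forceNat_eq, ← List.getD_eq_getElem _ [] hk]
    have hk9 : k < 9 := hco.2.1 ▸ hk
    obtain ⟨e, hb⟩ := hval (pt k)
    rw [idx_pt hk9] at e hb
    refine isLab_of_mem hG g.2 hd (pt k) hb ?_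
    rw [idx_pt hk9, e, smul_mulVec]
  simp only [candOk, forceNat_eq] at hc
  have hall' : (Ts.all fun T => isLab (tab6 T v)) = true := by simpa only [forceNat_eq] using hall
  rw [hall', cond_true, List.any_eq_true] at hc
  obtain ⟨K, hK, heq⟩ := hc
  refine ⟨K, hK, d⁻¹, inv_ne_zero hd, ?_⟩
  have hKM : toMat ω K = d • (g.1 : Matrix F9 F9 F) := by
    ext w z
    have hz : idx z < Ts.length := hco.2.1.symm ▸ idx_lt z
    rw [toMat_apply, ← natListEq_eq heq, List.getD_eq_getElem _ _ (by simpa using hz), List.getElem_map,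
      ← List.getD_eq_getElem _ [] hz, (hval z).1, val_unit, mulVec_single_one]
    rfl
  rw [hKM, smul_smul, inv_mul_cancel₀ hd, one_smul]

end Cfsg.Agent.H77.J3Out
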