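/-!
Certificate data for the automorphisms of `J₃`: an element `X` of order 19, an element `W` of
order 9 normalising it and an element `Z` commuting with `W`.
-/

set_option autoImplicit false

namespace Cfsg.Agent.H77.J3Out.Data

/-- The word of `X`. -/
def wX : List Nat := [1, 2, 6, 5]

/-- The word of `W`. -/
def wW : List Nat := [1, 1, 5, 4, 4, 6, 5, 6, 6, 1, 0, 5, 0, 0]

/-- The word of `Z`. -/
def wZ : List Nat := [2, 6, 1, 5, 6, 1, 5, 6, 5, 0, 5, 1, 5, 4]

/-- The elements commuting with `X`. -/
def knownX : List (List Nat) := [[1,2,4,8,16,32,64,128,256], [8,8785,609,8753,133508,132480,8304,134404,3204], [14,212992,400,513,74,38988,35910,155952,176], [8753,211192,144888,72968,247782,230807,77168,84723,151413], [24993,235696,128304,14,213479,36823,249302,39094,38268], [28058,94461,60072,19570,139019,26783,222097,252340,38344], [19570,147513,16034,84791,71915,49806,72970,150503,132049], [20172,206051,192478,219190,146481,87010,94588,154481,16631], [72968,164693,182983,11186,20547,92477,91362,250668,29581], [94518,14940,202662,24993,164906,145640,106582,219980,154539],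 [84791,12089,80848,127165,44426,252439,2531,54605,81018], [11186,258831,138329,261840,83770,57817,35764,179543,161231], [34121,51648,215059,20172,155270,50836,47681,208676,28826], [114616,104110,32344,261030,127473,123736,36349,33119,71502], [35576,141497,94430,136016,149952,65854,38499,160900,67220], [47101,210959,105231,203960,218966,161131,120134,13683,203901], [45833,168819,239155,114616,199536,198659,91403,67047,228937], [106799,202055,234573,249631,125501,46652,256251,46907,258568], [127463,152806,225408,34121,173598,244894,211858,190600,252635]]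

/-- Each as a scalar multiple of a power of `X`. -/
def powX : List (List Nat) := [[0,0], [1,2], [18,1], [2,1], [17,2], [9,2], [10,1], [8,1], [3,0], [16,0], [11,0], [4,2], [7,2], [14,2], [12,0], [15,2], [13,0], [5,0], [6,0]]

/-- The elements commuting with `W`. -/
def knownW : List (List Nat) := [[1,2,4,8,16,32,64,128,256], [897,44068,222622,238060,146495,138655,259096,97321,201383], [90545,230708,203070,137468,87156,179610,33800,115501,172589], [93454,17153,52630,112296,37076,172251,185992,210280,41323], [7119,51965,144200,97143,220757,138995,39552,175385,254969], [38248,105448,2576,110897,218013,36815,194764,70389,115047], [30787,99418,238924,111500,128277,132076,225000,135659,167003], [53753,175317,164733,78711,47951,41649,146681,48310,248152], [100795,78377,114715,259463,28090,24874,129855,63331,29581]]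

/-- An element commuting with `W` up to `ω`. -/
def wG : List Nat := [2, 6, 1, 5, 6, 1, 5, 6, 5, 0, 5, 1, 5, 4]

/-- Relations satisfied by `X, W, Z`. -/
def rels : List (List Nat) := [[0,2,0,2,0,2,0,2,0,2,0,2,0,2,0,2,0,2,0,2], [0,0,2,0,0,2,0,0,2,0,0,2,0,0,2,0,0,2,0,0,2,0,0,2,0,0,2,0,0,2,0,0,2,0,0,2,0,0,2,0,0,2,0,0,2], [0,1,2,0,1,2,0,1,2,0,1,2,0,1,2,0,1,2,0,1,2,0,1,2,0,1,2,0,1,2,0,1,2,0,1,2]]

/-- The seven generators in terms of `X, W, Z`. -/
def genW : List (List Nat) := [[1,1,0,0,0,1,2,0,0,0,2,1,0,0,2,0,2,0,0,1,1], [0,2,0,2,0,0,2,0,1,2,0,2,0,2,0,2,2,0,0,0], [0,1,0,2,0,0,0,1,2,0,0,0,1,2,0,2,0,2,0,1,2], [], [2,0,2,0,1,1,2,0,2,0,0,0,1,1,2], [2,0,0,2,0,1,0,0,2,0,0,2,0,1,1,0,0,0], [1,1,1,0,0,2,2,0,0,2,2,0,0,2,2,0,1,2]]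

/-- The scalars for these. -/
def genA : List Nat := [1, 2, 2, 2, 2, 2, 2]

/-- Images of the seven generators under the semilinear automorphism. -/
def betaW : List (List Nat) := [[0,0], [1], [2,2], [3,3], [4,4,4], [5], [6]]

/-- An element moving the image of `X` to the square of `X`. -/
def wU : List Nat := [1, 5, 6, 2, 6, 5, 6, 0, 0, 5, 2, 2, 1, 0]

/-- Two elements with central commutator. -/
def wA : List Nat := [0]

/-- The second of them. -/
def wB : List Nat := [6]

end Cfsg.Agent.H77.J3Out.Data
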