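import Cfsg.Agent.H77.J3Out.Rep
import Cfsg.Prelude.Def_KGroupFacts

/-!
The semilinear automorphism of `3·J₃`: squaring the entries, after conjugating the index field.
-/

set_option autoImplicit false

namespace Cfsg.Agent.H77.J3Out

open Cfsg.Spor Matrix Cfsg.Agent.H15.J3

/-- Conjugation of the index field. -/
def cj (z : F9) : F9 := (z.1, -z.2)

theorem cj_cj (z : F9) : cj (cj z) = z := by simp [cj]

/-- The bijection. -/
def cjEquiv : F9 ≃ F9 := ⟨cj, cj, cj_cj, cj_cj⟩

theorem beta_bits : ∀ j : Fin 7, small 7 (Data.betaW.getD j []) = true ∧ ∀ w z : F9,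
    ((el (Data.betaW.getD j [])).getD (idx z) 0).testBit (idx w) =
      (((g7 j).getD (idx (cj z)) 0).testBit (idx (cj w)) ^^
        ((g7 j).getD (idx (cj z)) 0).testBit (9 + idx (cj w))) ∧
    ((el (Data.betaW.getD j [])).getD (idx z) 0).testBit (9 + idx w) =
      ((g7 j).getD (idx (cj z)) 0).testBit (9 + idx (cj w)) := by decide +kernel

variable {F : Type*} [Field F] [Fintype F] {ω : F} (hG : Good F ω)

/-- The Frobenius automorphism of the field with four elements. -/
def frob : F ≃+* F where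
  toFun x := x ^ 2
  invFun x := x ^ 2
  left_inv x := by
    show (x ^ 2) ^ 2 = x
    rw [← pow_mul, show 2 * 2 = Fintype.card F from hG.card.symm, FiniteField.pow_card]
  right_inv x := by
    show (x ^ 2) ^ 2 = x
    rw [← pow_mul, show 2 * 2 = Fintype.card F from hG.card.symm, FiniteField.pow_card]
  map_mul' x y := mul_pow x y 2
  map_add' x y := by linear_combination x * y * two_zero hG

/-- The semilinear map on matrices. -/
def phi : Matrix F9 F9 F ≃* Matrix F9 F9 F where
  toFun M := Matrix.of fun w z => frob hG (M (cj w) (cj z))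
  invFun M := Matrix.of fun w z => frob hG (M (cj w) (cj z))
  left_inv M := by
    ext w z
    show frob hG (frob hG (M (cj (cj w)) (cj (cj z)))) = M w z
    rw [cj_cj, cj_cj]
    exact (frob hG).left_inv _
  right_inv M := by
    ext w z
    show frob hG (frob hG (M (cj (cj w)) (cj (cj z)))) = M w z
    rw [cj_cj, cj_cj]
    exact (frob hG).left_inv _
  map_mul' M N := by
    ext w z
    show frob hG ((M * N) (cj w) (cj z)) =
      ∑ x, frob hG (M (cj w) (cj x)) * frob hG (N (cj x) (cj z))
    rw [Matrix.mul_apply, map_sum, ← Equiv.sum_comp cjEquiv]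
    exact Finset.sum_congr rfl fun x _ => map_mul _ _ _

theorem phi_g7 (j : Fin 7) : phi hG (toMat ω (g7 j)) = toMat ω (el (Data.betaW.getD j [])) := by
  ext w z
  show (toMat ω (g7 j) (cj w) (cj z)) ^ 2 = _
  rw [toMat_apply, toMat_apply, val, val, ((beta_bits j).2 w z).1, ((beta_bits j).2 w z).2]
  generalize ((g7 j).getD (idx (cj z)) 0).testBit (idx (cj w)) = a
  generalize ((g7 j).getD (idx (cj z)) 0).testBit (9 + idx (cj w)) = b
  have h2 := two_zero hG
  have h3 := hG.eq
  cases a <;> cases b <;> simp [cf] <;> grind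

include hG

theorem phi_hSet {m : Matrix F9 F9 F} (h : m ∈ hSet F ω) : phi hG m ∈ hSet F ω := by
  obtain ⟨w, hw, rfl⟩ := h
  induction w with
  | nil => rw [toMat_ev_nil hG, map_one]; exact hSet_one hG
  | cons j w ih =>
    simp only [small, List.all_cons, Bool.and_eq_true, decide_eq_true_eq] at hw
    rw [toMat_ev_cons hG, map_mul]
    refine hSet_mul hG ?_ (ih (by simp only [small]; exact hw.2))
    show phi hG (toMat ω (g7 j)) ∈ _
    rw [show g7 j = g7 ((⟨j, hw.1⟩ : Fin 7) : ℕ) from rfl, phi_g7 hG]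
    exact ev_mem_hSet hG le_rfl (beta_bits ⟨j, hw.1⟩).1

/-- The automorphism of the triple cover. -/
theorem exists_cover_aut : ∃ Ψ : ↥(threeJ3 F ω) ≃* ↥(threeJ3 F ω),
    ∀ g, ((Ψ g).1 : Matrix F9 F9 F) = phi hG (g.1 : Matrix F9 F9 F) := by
  have hmem : ∀ g ∈ threeJ3 F ω, Units.mapEquiv (phi hG) g ∈ threeJ3 F ω := fun g hg => by
    obtain ⟨m, hm, e⟩ := isUnit_hSet hG (phi_hSet hG ((mem_threeJ3_iff hG g).1 hg))
    rwa [show Units.mapEquiv (phi hG) g = m from Units.ext e.symm]
  have hinv : ∀ g : GL F9 F, Units.mapEquiv (phi hG) (Units.mapEquiv (phi hG) g) = g := fun g =>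
    Units.ext ((phi hG).left_inv _)
  exact ⟨{ toFun := fun g => ⟨_, hmem g g.2⟩
           invFun := fun g => ⟨_, hmem g g.2⟩
           left_inv := fun g => Subtype.ext (hinv g.1)
           right_inv := fun g => Subtype.ext (hinv g.1)
           map_mul' := fun a b => Subtype.ext (map_mul (Units.mapEquiv (phi hG)) a.1 b.1) }, fun g => rfl⟩

end Cfsg.Agent.H77.J3Out
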