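import Cfsg.Agent.H77.J3Out.Centralizer
import Cfsg.Agent.H77.J3Out.Semilinear

/-!
The outer automorphism group of `J₃` has order two.
-/

set_option autoImplicit false
set_option maxRecDepth 4000

namespace Cfsg.Agent.H77.J3Out

open Cfsg.Spor Matrix Cfsg.Agent.H15.J3 Cfsg.Agent.H16

/-- The code of the image of `X` under the semilinear map. -/
def betaX : List ℕ := ev (Data.betaW.map el) Data.wX

/-- The element conjugating it to the square of `X`. -/
def U : List ℕ := el Data.wU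

theorem words_ok : small 7 Data.wX = true ∧ small 7 Data.wW = true ∧ small 7 Data.wZ = true ∧
    small 7 Data.wU = true ∧ small 7 Data.wA = true ∧ small 7 Data.wB = true ∧
    Data.betaW.length = 7 := by decide +kernel

theorem normal_ok : mm W X = mm (ev trip (List.replicate 4 0)) W ∧ scs 2 (mm Z W) = mm W Z ∧
    mm U betaX = mm (ev trip (List.replicate 2 0)) U := by decide +kernel

theorem comm_ok : mm (el Data.wA) (el Data.wB) = sc (mm (el Data.wB) (el Data.wA)) := by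
  decide +kernel

theorem gens_ok : ∀ j : Fin 7, small 3 (Data.genW.getD j []) = true ∧
    ev trip (Data.genW.getD j []) = scs (Data.genA.getD j 0) (g7 j) := by decide +kernel

theorem rels_ok : ∀ r : Fin 3, small 3 (Data.rels.getD r []) = true ∧
    ∃ a : Fin 3, ev trip (Data.rels.getD r []) = scs a idM := by decide +kernel

/-- The candidates for the image of `Z`. -/
def cand (a i : ℕ) : List ℕ := mm (ev [Z] (List.replicate a 0)) (Data.knownW.getD i [])

theorem verdict_ok : Data.knownW.length = 9 ∧ ∀ a : Fin 3, ∀ i : Fin 9,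
    (∃ r : Fin 3, notScalar (ev [X, W, cand a i] (Data.rels.getD r [])) = true) ∨
    (∃ b : Fin 3, cand a i = scs b Z) := by decide +kernel

theorem residues : ∀ k : Fin 19, (k : ℕ) ≠ 0 → ∃ j : Fin 9,
    (k : ℕ) = 4 ^ (j : ℕ) % 19 ∨ (k : ℕ) = 2 * 4 ^ (j : ℕ) % 19 := by decide +kernel

theorem shift : ∀ k : Fin 19, (13 * (k : ℕ) % 19 + (k : ℕ)) % 19 = 4 * (13 * (k : ℕ) % 19) % 19 := by
  decide +kernel

section

variable {F : Type*} [Field F] [Fintype F] {ω : F} (hG : Good F ω)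
include hG

theorem eq_top_of_reps {x w z : J3 F ω} (hx : Rep ω x X) (hw : Rep ω w W) (hz : Rep ω z Z)
    (S : Subgroup (J3 F ω)) (h : x ∈ S ∧ w ∈ S ∧ z ∈ S) : S = ⊤ := by
  have hev : ∀ v, small 3 v = true → evQ (fun j => [x, w, z].getD j 1) v ∈ S := by
    intro v
    induction v with
    | nil => exact fun _ => one_mem S
    | cons j v ih =>
      intro hv
      simp only [small, List.all_cons, Bool.and_eq_true, decide_eq_true_eq] at hv
      refine mul_mem ?_ (ih (by simp only [small]; exact hv.2))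
      obtain rfl | rfl | rfl : j = 0 ∨ j = 1 ∨ j = 2 := by omega
      exacts [h.1, h.2.1, h.2.2]
  refine Subgroup.comap_injective (QuotientGroup.mk'_surjective _) ?_
  rw [Subgroup.comap_top]
  refine subgroup_eq_top hG _ fun j hj => ?_
  obtain ⟨g, e⟩ := exists_el hG (g7_mem_hSet hG hj)
  refine ⟨g, ?_, e⟩
  show (QuotientGroup.mk g : J3 F ω) ∈ S
  have h1 : Rep ω (evQ (fun i => [x, w, z].getD i 1) (Data.genW.getD j [])) (g7 j) := by
    refine (rep_evQ hG (gs := trip) (n := 3) (fun i hi => ?_) _ (gens_ok ⟨j, hj⟩).1).scs hG (gens_ok ⟨j, hj⟩).2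
    obtain rfl | rfl | rfl : i = 0 ∨ i = 1 ∨ i = 2 := by omega
    exacts [hx, hw, hz]
  have h2 : Rep ω (QuotientGroup.mk g : J3 F ω) (g7 j) := ⟨g, rfl, 1, one_ne_zero, by rw [e, one_smul]⟩
  rw [h2.unique hG h1]
  exact hev _ (gens_ok ⟨j, hj⟩).1

/-- An automorphism fixing the element of order 19 is inner. -/
theorem mem_inn_of_fix {x w z : J3 F ω} (hx : Rep ω x X) (hw : Rep ω w W) (hz : Rep ω z Z)
    (h19 : x ^ 19 = 1) (hwx : w * x = x ^ 4 * w) (hzw : z * w = w * z)
    {φ : MulAut (J3 F ω)} (hφ : φ x = x) : φ ∈ Cfsg.Inn (J3 F ω) := by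
  have h1 : φ w * x = x ^ 4 * φ w := by
    have := congrArg φ hwx
    rwa [map_mul, map_mul, map_pow, hφ] at this
  obtain ⟨k, hk, e⟩ := centralizer_X hG hx (q := w⁻¹ * φ w) (by
    rw [mul_assoc, h1, ← mul_assoc, ← mul_assoc]
    congr 1
    rw [inv_mul_eq_iff_eq_mul, ← mul_assoc, hwx, mul_inv_cancel_right])
  rw [inv_mul_eq_iff_eq_mul] at e
  set j := 13 * k % 19 with hj
  have hpow : ∀ n, w * x ^ n = x ^ (4 * n) * w := fun n => by
    induction n with
    | zero => simp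
    | succ n ih =>
      rw [pow_succ, ← mul_assoc, ih, mul_assoc, hwx, ← mul_assoc, ← pow_add]
      rfl
  set c := x ^ (4 * j) with hc
  set ψ := MulAut.conj c * φ with hψ
  have hψx : ψ x = x := by
    show c * φ x * c⁻¹ = x
    rw [hφ, hc, mul_inv_eq_iff_eq_mul, ← pow_succ, ← pow_succ']
  have hψw : ψ w = w := by
    show c * φ w * c⁻¹ = w
    rw [e, mul_inv_eq_iff_eq_mul, ← mul_assoc, hc]
    rw [show x ^ (4 * j) * w = w * x ^ j from (hpow j).symm, mul_assoc, ← pow_add]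
    congr 1
    rw [← Nat.mod_add_div (j + k) 19, pow_add, pow_mul, h19, one_pow, mul_one,
      ← Nat.mod_add_div (4 * j) 19, pow_add, pow_mul, h19, one_pow, mul_one]
    congr 1
    exact shift ⟨k, hk⟩
  have h2 : ψ z * w = w * ψ z := by
    have := congrArg ψ hzw
    rwa [map_mul, map_mul, hψw] at this
  obtain ⟨a, K, hK, hr⟩ := centralizer_W hG hw h2
  obtain ⟨i, hi, rfl⟩ := List.getElem_of_mem hK
  obtain ⟨hl, hv⟩ := verdict_ok
  rw [← List.getD_eq_getElem _ [] hi] at hr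
  replace hr : Rep ω (ψ z) (cand a i) := hr
  rcases hv a ⟨i, hl ▸ hi⟩ with ⟨r, hf⟩ | ⟨b, hb⟩
  · exfalso
    obtain ⟨hrs, d, hd⟩ := rels_ok r
    set es : ℕ → J3 F ω := fun j => [x, w, z].getD j 1
    have h3 : evQ es (Data.rels.getD r []) = 1 := by
      refine ((rep_evQ hG (gs := trip) (n := 3) (fun i hi => ?_) _ hrs).scs hG hd).unique hG (Rep.one hG)
      obtain rfl | rfl | rfl : i = 0 ∨ i = 1 ∨ i = 2 := by omega
      exacts [hx, hw, hz]
    have h4 := congrArg ψ h3
    rw [map_evQ hG, map_one] at h4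
    refine (rep_evQ hG (gs := [X, W, cand a i]) (n := 3) (fun m hm => ?_)
      _ hrs).ne_one hG hf h4
    obtain rfl | rfl | rfl : m = 0 ∨ m = 1 ∨ m = 2 := by omega
    · show Rep ω (ψ x) X; rw [hψx]; exact hx
    · show Rep ω (ψ w) W; rw [hψw]; exact hw
    · exact hr
  · have hψz : ψ z = z := (hr.scs hG hb).unique hG hz
    have hψ1 : ψ = 1 := by
      refine MulEquiv.ext fun q => ?_
      have hq : q ∈ MonoidHom.eqLocus ψ.toMonoidHom (MonoidHom.id (J3 F ω)) := by
        rw [eq_top_of_reps hG hx hw hz (MonoidHom.eqLocus ψ.toMonoidHom (MonoidHom.id (J3 F ω)))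
          ⟨hψx, hψw, hψz⟩]
        trivial
      exact hq
    exact ⟨c⁻¹, by rw [map_inv]; exact inv_eq_of_mul_eq_one_right hψ1⟩

/-- The automorphism induced by the semilinear map. -/
theorem exists_beta : ∃ β : MulAut (J3 F ω), β ∉ Cfsg.Inn (J3 F ω) ∧
    ∀ x, Rep ω x X → Rep ω (β x) betaX := by
  obtain ⟨Ψ, hΨ⟩ := exists_cover_aut hG
  have hcen : (Subgroup.center ↥(threeJ3 F ω)).map Ψ.toMonoidHom = Subgroup.center ↥(threeJ3 F ω) :=
    Subgroup.characteristic_iff_map_eq.1 inferInstance Ψ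
  let β : MulAut (J3 F ω) := QuotientGroup.congr _ _ Ψ hcen
  have hβ : ∀ g, β (QuotientGroup.mk g) = QuotientGroup.mk (Ψ g) := fun g => rfl
  refine ⟨β, ?_, ?_⟩
  · rintro ⟨u, hu⟩
    obtain ⟨u, rfl⟩ := QuotientGroup.mk_surjective u
    have hcj : ∀ g, ∃ c ∈ Subgroup.center ↥(threeJ3 F ω), Ψ g = u * g * u⁻¹ * c := by
      intro g
      refine ⟨(u * g * u⁻¹)⁻¹ * Ψ g, ?_, by group⟩
      rw [← QuotientGroup.eq, ← hβ, ← hu]
      rfl
    obtain ⟨-, -, -, -, hA, hB, -⟩ := words_ok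
    obtain ⟨a, ea⟩ := exists_el hG (ev_mem_hSet hG le_rfl hA)
    obtain ⟨b, eb⟩ := exists_el hG (ev_mem_hSet hG le_rfl hB)
    obtain ⟨s0, hs0, es⟩ := scalar_mem hG (w_ne_zero hG)
    set s : ↥(threeJ3 F ω) := ⟨s0, hs0⟩
    have hab : a * b = s * (b * a) := by
      refine ext_mat hG ?_
      rw [mat_mul hG, mat_mul hG, mat_mul hG, ea, eb]
      show _ = (s0 : Matrix F9 F9 F) * _
      rw [es, smul_mul_assoc, one_mul, ← toMat_mm hG, ← toMat_mm hG, ← toMat_sc hG]
      exact congrArg (toMat ω) comm_ok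
    obtain ⟨c, hc, ec⟩ := hcj a
    obtain ⟨d, hd, ed⟩ := hcj b
    have hs : s ∈ Subgroup.center ↥(threeJ3 F ω) := mem_center_of_scalar hG es
    rw [Subgroup.mem_center_iff] at hc hd hs
    have h := congrArg Ψ hab
    rw [map_mul, map_mul, map_mul, ec, ed] at h
    have h1 : u * (a * b) * u⁻¹ * (c * d) = Ψ s * (u * (b * a) * u⁻¹) * (c * d) := by
      calc u * (a * b) * u⁻¹ * (c * d) = u * a * u⁻¹ * (u * b * u⁻¹ * c) * d := by group
        _ = u * a * u⁻¹ * c * (u * b * u⁻¹ * d) := by rw [hc (u * b * u⁻¹)]; group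
        _ = Ψ s * (u * b * u⁻¹ * d * (u * a * u⁻¹ * c)) := h
        _ = Ψ s * (u * b * u⁻¹ * (d * (u * a * u⁻¹)) * c) := by group
        _ = Ψ s * (u * b * u⁻¹ * (u * a * u⁻¹ * d) * c) := by rw [hd (u * a * u⁻¹)]
        _ = Ψ s * (u * (b * a) * u⁻¹) * (d * c) := by group
        _ = _ := by rw [hc d]
    rw [mul_left_inj, hab] at h1
    have h2 : Ψ s = s := by
      have h3 : u * (s * (b * a)) * u⁻¹ = s * (u * (b * a) * u⁻¹) := by
        rw [← mul_assoc u s, hs u]; group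
      rw [h3] at h1
      exact (mul_right_cancel h1).symm
    have h3 := congrArg (fun g : ↥(threeJ3 F ω) => (g.1 : Matrix F9 F9 F) 0 0) h2
    simp only [hΨ] at h3
    rw [show (s.1 : Matrix F9 F9 F) = ω • 1 from es] at h3
    change ((ω • (1 : Matrix F9 F9 F)) (cj 0) (cj 0)) ^ 2 = (ω • (1 : Matrix F9 F9 F)) 0 0 at h3
    rw [show cj 0 = 0 by simp [cj], Matrix.smul_apply, Matrix.one_apply_eq, smul_eq_mul, mul_one] at h3
    have h4 : ω * (ω - 1) = 0 := by linear_combination h3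
    rcases mul_eq_zero.1 h4 with h5 | h5
    · exact w_ne_zero hG h5
    · exact w_ne_one hG (sub_eq_zero.1 h5)
  · rintro x ⟨g, rfl, c, hc, e⟩
    refine ⟨Ψ g, (hβ g).symm, frob hG c, (map_ne_zero _).2 hc, ?_⟩
    rw [hΨ, e]
    have hsmul : ∀ M : Matrix F9 F9 F, phi hG (c • M) = frob hG c • phi hG M := fun M => by
      ext w z
      exact map_mul (frob hG) c _
    rw [hsmul]
    congr 1
    have key : ∀ v, small 7 v = true →
        phi hG (toMat ω (el v)) = toMat ω (ev (Data.betaW.map el) v) := by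
      intro v
      induction v with
      | nil => intro _; rw [el, toMat_ev_nil hG, map_one, toMat_ev_nil hG]
      | cons j v ih =>
        intro hv
        simp only [small, List.all_cons, Bool.and_eq_true, decide_eq_true_eq] at hv
        rw [el, toMat_ev_cons hG, map_mul, toMat_ev_cons hG]
        refine congrArg₂ (· * ·) ?_ (ih (by simp only [small]; exact hv.2))
        have hl : j < Data.betaW.length := words_ok.2.2.2.2.2.2 ▸ hv.1
        show phi hG (toMat ω (g7 ((⟨j, hv.1⟩ : Fin 7) : ℕ))) = _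
        rw [phi_g7 hG, List.getD_eq_getElem _ [] (show (j : ℕ) < _ from hl),
          List.getD_eq_getElem (Data.betaW.map el) [] (by simpa using hl), List.getElem_map]
    exact key _ words_ok.1

/-- The outer automorphism group has order two. -/
theorem card_out : Nat.card (Cfsg.Out (J3 F ω)) = 2 := by
  classical
  obtain ⟨hwX, hwW, hwZ, hwU, -, -, -⟩ := words_ok
  obtain ⟨x, hx⟩ : ∃ x : J3 F ω, Rep ω x X := exists_rep hG hwX
  obtain ⟨w, hw⟩ : ∃ w : J3 F ω, Rep ω w W := exists_rep hG hwW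
  obtain ⟨z, hz⟩ : ∃ z : J3 F ω, Rep ω z Z := exists_rep hG hwZ
  obtain ⟨v, hv⟩ : ∃ v : J3 F ω, Rep ω v U := exists_rep hG hwU
  have h19 : x ^ 19 = 1 := ((hx.pow hG 19).scs hG order_ok.1).unique hG (Rep.one hG)
  have hwx : w * x = x ^ 4 * w := (normal_ok.1 ▸ hw.mul hG hx).unique hG ((hx.pow hG 4).mul hG hw)
  have hzw : z * w = w * z := ((hz.mul hG hw).scs' hG normal_ok.2.1).unique hG (hw.mul hG hz)
  obtain ⟨β, hβn, hβX⟩ := exists_beta hG
  have hvx : v * β x = x ^ 2 * v :=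
    (normal_ok.2.2 ▸ hv.mul hG (hβX x hx)).unique hG ((hx.pow hG 2).mul hG hv)
  haveI : Fact (Nat.Prime 19) := ⟨by norm_num⟩
  have hxo : orderOf x = 19 := orderOf_eq_prime h19 (hx.ne_one hG order_ok.2)
  haveI : Finite (J3 F ω) := Nat.finite_of_card_ne_zero (by rw [card_J3 hG]; norm_num)
  have hfac : (Nat.card (J3 F ω)).factorization 19 = 1 := by
    rw [card_J3 hG, show (50232960 : ℕ) = 19 ^ 1 * 2643840 by norm_num,
      Nat.factorization_mul (by norm_num) (by norm_num), Finsupp.add_apply,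
      Nat.Prime.factorization_pow (by norm_num),
      Nat.factorization_eq_zero_of_not_dvd (by norm_num : ¬ 19 ∣ 2643840)]
    simp
  have hwpow : ∀ j : ℕ, w ^ j * x * (w ^ j)⁻¹ = x ^ (4 ^ j % 19) := by
    have h1 : w * x * w⁻¹ = x ^ 4 := by rw [hwx, mul_inv_cancel_right]
    intro j
    rw [← hxo, pow_mod_orderOf]
    induction j with
    | zero => simp
    | succ j ih =>
      rw [pow_succ' w, show w * w ^ j * x * (w * w ^ j)⁻¹ = w * (w ^ j * x * (w ^ j)⁻¹) * w⁻¹ by group,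
        ih, ← conj_pow, h1, ← pow_mul, ← pow_succ']
  have cover : ∀ φ : MulAut (J3 F ω), ∃ u, φ x = MulAut.conj u x ∨ φ x = MulAut.conj u (β x) := by
    intro φ
    have hφo : orderOf (φ x) = 19 := by rw [MulEquiv.orderOf_eq, hxo]
    let P : Sylow 19 (J3 F ω) := Sylow.ofCard (Subgroup.zpowers (φ x))
      (by rw [Nat.card_zpowers, hφo, hfac, pow_one])
    let Q : Sylow 19 (J3 F ω) := Sylow.ofCard (Subgroup.zpowers x)
      (by rw [Nat.card_zpowers, hxo, hfac, pow_one])
    obtain ⟨c, hc⟩ := MulAction.exists_smul_eq (J3 F ω) P Q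
    have hmem : c * φ x * c⁻¹ ∈ Subgroup.zpowers x := by
      have : MulAut.conj c • φ x ∈ (c • P : Sylow 19 (J3 F ω)) :=
        Subgroup.smul_mem_pointwise_smul _ (MulAut.conj c) _ (Subgroup.mem_zpowers (φ x))
      rw [hc] at this
      exact this
    obtain ⟨k, hk⟩ := mem_powers_iff_mem_zpowers.2 hmem
    replace hk : x ^ k = c * φ x * c⁻¹ := hk
    rw [← pow_mod_orderOf, hxo] at hk
    have hk0 : k % 19 ≠ 0 := fun e => by
      rw [e, pow_zero] at hk
      rw [conj_eq_one_iff.1 hk.symm, orderOf_one] at hφo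
      norm_num at hφo
    obtain ⟨j, hj⟩ := residues ⟨k % 19, Nat.mod_lt _ (by norm_num)⟩ hk0
    have hφx : φ x = c⁻¹ * x ^ (k % 19) * c := by rw [hk]; group
    rcases hj with hj | hj <;> simp only at hj
    · refine ⟨c⁻¹ * w ^ (j : ℕ), Or.inl ?_⟩
      rw [hφx, hj, ← hwpow, MulAut.conj_apply]
      group
    · refine ⟨c⁻¹ * w ^ (j : ℕ) * v, Or.inr ?_⟩
      have e2 : x ^ (k % 19) = w ^ (j : ℕ) * x ^ 2 * (w ^ (j : ℕ))⁻¹ := by
        rw [← conj_pow, hwpow, ← pow_mul, hj, ← hxo, pow_mod_orderOf, hxo, mul_comm, pow_mul, pow_mul]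
        congr 1
        rw [← hxo, pow_mod_orderOf]
      rw [hφx, e2, show x ^ 2 = v * β x * v⁻¹ by rw [hvx, mul_inv_cancel_right], MulAut.conj_apply]
      group
  rw [Nat.card_eq_two_iff]
  refine ⟨1, QuotientGroup.mk β, fun e => hβn ((QuotientGroup.eq_one_iff _).1 e.symm),
    Set.eq_univ_of_forall fun q => ?_⟩
  induction q using QuotientGroup.induction_on with
  | H φ =>
    obtain ⟨u, hu⟩ := cover φ
    have hin : MulAut.conj u ∈ Cfsg.Inn (J3 F ω) := ⟨u, rfl⟩
    rcases hu with hu | hu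
    · refine Or.inl ((QuotientGroup.eq_one_iff _).2 ?_)
      have h := mem_inn_of_fix hG hx hw hz h19 hwx hzw (φ := (MulAut.conj u)⁻¹ * φ) (by
        rw [MulAut.mul_apply, hu, MulAut.inv_apply_self])
      simpa using mul_mem hin h
    · refine Or.inr ?_
      have h := mem_inn_of_fix hG hx hw hz h19 hwx hzw (φ := β⁻¹ * ((MulAut.conj u)⁻¹ * φ)) (by
        rw [MulAut.mul_apply, MulAut.mul_apply, hu, MulAut.inv_apply_self, MulAut.inv_apply_self])
      show (QuotientGroup.mk φ : Cfsg.Out (J3 F ω)) = QuotientGroup.mk β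
      conv_lhs => rw [show φ = MulAut.conj u * (β * (β⁻¹ * ((MulAut.conj u)⁻¹ * φ))) by group]
      rw [QuotientGroup.mk_mul, QuotientGroup.mk_mul, (QuotientGroup.eq_one_iff _).2 h,
        (QuotientGroup.eq_one_iff _).2 hin, one_mul, mul_one]

end

end Cfsg.Agent.H77.J3Out
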