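import Cfsg.Agent.H15.J3.Simple
import Cfsg.Agent.H77.J3Out.Data

/-!
Elements of `J₃` given by matrix codes up to a scalar.
-/

set_option autoImplicit false

namespace Cfsg.Agent.H77.J3Out

open Cfsg.Spor Matrix Cfsg.Agent.H15.J3

/-- Multiply a code matrix by the scalar `ω`. -/
def sc (M : List ℕ) : List ℕ := mm (g7 3) M

/-- Multiply a code matrix by a power of `ω`. -/
def scs : ℕ → List ℕ → List ℕ
  | 0, M => M
  | a + 1, M => sc (scs a M)

/-- The code of a word in the seven generators. -/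
def el (w : List ℕ) : List ℕ := ev H15.J3.Data.gen7 w

/-- The element of order 19. -/
def X : List ℕ := el Data.wX

/-- The element of order 9 normalising it. -/
def W : List ℕ := el Data.wW

/-- The element commuting with the second. -/
def Z : List ℕ := el Data.wZ

/-- The three elements. -/
def trip : List (List ℕ) := [X, W, Z]

/-- A test showing that a code matrix is not a scalar. -/
def notScalar (M : List ℕ) : Bool :=
  [1, 2, 4, 8, 16, 32, 64, 128, 256, 128359].any fun v =>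
    decide (app M v < 2 ^ 18) && !(decide (H15.J3.norm (app M v) = H15.J3.norm v))

variable {F : Type*} [Field F] [Fintype F] {ω : F}

/-- `q` is the image of an element whose matrix is a multiple of the code `M`. -/
def Rep (ω : F) (q : J3 F ω) (M : List ℕ) : Prop :=
  ∃ g : ↥(threeJ3 F ω), (QuotientGroup.mk g : J3 F ω) = q ∧
    ∃ c : F, c ≠ 0 ∧ (g.1 : Matrix F9 F9 F) = c • toMat ω M

section

variable (hG : Good F ω)
include hG

theorem toMat_sc (M : List ℕ) : toMat ω (sc M) = ω • toMat ω M := by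
  rw [sc, toMat_mm hG, g7_three hG, smul_mul_assoc, one_mul]

theorem toMat_scs (M : List ℕ) : ∀ a, toMat ω (scs a M) = ω ^ a • toMat ω M
  | 0 => by rw [scs, pow_zero, one_smul]
  | a + 1 => by rw [scs, toMat_sc hG, toMat_scs M a, smul_smul, pow_succ']

theorem w_pow_ne (a : ℕ) : ω ^ a ≠ 0 := pow_ne_zero a (w_ne_zero hG)

theorem eq_iff {g h : ↥(threeJ3 F ω)} :
    (QuotientGroup.mk g : J3 F ω) = QuotientGroup.mk h ↔
      ∃ c : F, c ≠ 0 ∧ (g.1 : Matrix F9 F9 F) = c • (h.1 : Matrix F9 F9 F) := by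
  rw [QuotientGroup.eq]
  constructor
  · intro hc
    obtain ⟨c, hc0, e⟩ := center_scalar hG hc
    refine ⟨c⁻¹, inv_ne_zero hc0, ?_⟩
    have e' : (h.1 : Matrix F9 F9 F) = (g.1 : Matrix F9 F9 F) * (c • 1) := by
      rw [← e, ← mat_mul hG, mul_inv_cancel_left]
    rw [e', mul_smul_comm, mul_one, smul_smul, inv_mul_cancel₀ hc0, one_smul]
  · rintro ⟨c, hc0, e⟩
    refine mem_center_of_scalar hG (c := c⁻¹) ?_
    have e' : (h.1 : Matrix F9 F9 F) = c⁻¹ • (g.1 : Matrix F9 F9 F) := by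
      rw [e, smul_smul, inv_mul_cancel₀ hc0, one_smul]
    rw [mat_mul hG, e', mul_smul_comm, ← mat_mul hG, inv_mul_cancel]
    rfl

theorem Rep.one : Rep ω 1 idM :=
  ⟨1, rfl, 1, one_ne_zero, by rw [toMat_idM hG, one_smul]; rfl⟩

theorem Rep.mul {p q : J3 F ω} {M N : List ℕ} (hp : Rep ω p M) (hq : Rep ω q N) :
    Rep ω (p * q) (mm M N) := by
  obtain ⟨g, rfl, c, hc, eg⟩ := hp
  obtain ⟨h, rfl, d, hd, eh⟩ := hq
  exact ⟨g * h, rfl, c * d, mul_ne_zero hc hd,
    by rw [mat_mul hG, eg, eh, toMat_mm hG, smul_mul_assoc, mul_smul_comm, smul_smul]⟩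

theorem Rep.unique {p q : J3 F ω} {M : List ℕ} (hp : Rep ω p M) (hq : Rep ω q M) : p = q := by
  obtain ⟨g, rfl, c, hc, eg⟩ := hp
  obtain ⟨h, rfl, d, hd, eh⟩ := hq
  refine (eq_iff hG).2 ⟨c * d⁻¹, mul_ne_zero hc (inv_ne_zero hd), ?_⟩
  rw [eg, eh, smul_smul, inv_mul_cancel_right₀ hd]

theorem Rep.congr {p : J3 F ω} {M N : List ℕ} (hp : Rep ω p M) {c : F} (hc : c ≠ 0)
    (h : toMat ω M = c • toMat ω N) : Rep ω p N := by
  obtain ⟨g, rfl, d, hd, eg⟩ := hp
  exact ⟨g, rfl, d * c, mul_ne_zero hd hc, by rw [eg, h, smul_smul]⟩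

theorem Rep.scs {p : J3 F ω} {M N : List ℕ} {a : ℕ} (hp : Rep ω p M) (h : M = scs a N) : Rep ω p N :=
  hp.congr hG (w_pow_ne hG a) (by rw [h, toMat_scs hG])

theorem Rep.scs' {p : J3 F ω} {M N : List ℕ} {a : ℕ} (hp : Rep ω p M) (h : J3Out.scs a M = N) :
    Rep ω p N :=
  hp.congr hG (inv_ne_zero (w_pow_ne hG a)) (by
    rw [← h, toMat_scs hG, smul_smul, inv_mul_cancel₀ (w_pow_ne hG a), one_smul])

theorem exists_rep {w : List ℕ} (hw : small 7 w = true) : ∃ q : J3 F ω, Rep ω q (el w) := by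
  obtain ⟨g, e⟩ := exists_el hG (ev_mem_hSet hG le_rfl hw)
  exact ⟨_, g, rfl, 1, one_ne_zero, by rw [e, one_smul]; rfl⟩

theorem Rep.ne_one {p : J3 F ω} {M : List ℕ} (hp : Rep ω p M) (h : notScalar M = true) : p ≠ 1 := by
  rintro rfl
  obtain ⟨g, hg, c, hc, eg⟩ := hp
  obtain ⟨d, hd, ed⟩ := (eq_iff hG (h := 1)).1 hg
  simp only [notScalar, List.any_eq_true, Bool.and_eq_true, decide_eq_true_eq, Bool.not_eq_true',
    decide_eq_false_iff_not] at h
  obtain ⟨v, hv, hlt, hne⟩ := h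
  refine hne (norm_eq_of_smul hG hlt ?_ (mul_ne_zero (inv_ne_zero hc) hd) ?_)
  · simp only [List.mem_cons, List.not_mem_nil, or_false] at hv
    rcases hv with rfl | rfl | rfl | rfl | rfl | rfl | rfl | rfl | rfl | rfl <;> norm_num
  · have e1 : c • toMat ω M = d • (1 : Matrix F9 F9 F) := by rw [← eg, ed]; rfl
    have e2 : toMat ω M = (c⁻¹ * d) • (1 : Matrix F9 F9 F) := by
      rw [← smul_smul, ← e1, smul_smul, inv_mul_cancel₀ hc, one_smul]
    rw [val_app hG, e2, smul_mulVec, one_mulVec]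

end

/-- The value of a word in given elements. -/
def evQ (es : ℕ → J3 F ω) : List ℕ → J3 F ω
  | [] => 1
  | j :: w => es j * evQ es w

section

variable (hG : Good F ω)
include hG

theorem rep_evQ {es : ℕ → J3 F ω} {gs : List (List ℕ)} {n : ℕ}
    (h : ∀ j < n, Rep ω (es j) (gs.getD j [])) :
    ∀ w, small n w = true → Rep ω (evQ es w) (ev gs w)
  | [], _ => Rep.one hG
  | j :: w, hw => by
    simp only [small, List.all_cons, Bool.and_eq_true, decide_eq_true_eq] at hw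
    exact (h j hw.1).mul hG (rep_evQ h w (by simp only [small]; exact hw.2))

theorem map_evQ {H : Type*} [FunLike H (J3 F ω) (J3 F ω)] [MonoidHomClass H (J3 F ω) (J3 F ω)]
    (f : H) (es : ℕ → J3 F ω) : ∀ w, f (evQ es w) = evQ (fun j => f (es j)) w
  | [] => map_one f
  | j :: w => by rw [evQ, map_mul, map_evQ f es w]; rfl

end

end Cfsg.Agent.H77.J3Out
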